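import Mathlib

/-! The cardinality of a disjoint union in `ℕ∞`. -/

set_option autoImplicit false

universe u v

open Filter Topology

namespace Groth.Agent.NormDim1

theorem card_sigma_finset {α : Type u} (f : α → Type v) (s : Finset α) :
    ENat.card {p : Σ a, f a // p.1 ∈ s} = ∑ a ∈ s, ENat.card (f a) := by
  classical
  induction s using Finset.induction with
  | empty =>
    have : IsEmpty {p : Σ a, f a // p.1 ∈ (∅ : Finset α)} := ⟨fun p => absurd p.2 (Finset.notMem_empty _)⟩
    rw [ENat.card_eq_zero_iff_empty (α := {p : Σ a, f a // p.1 ∈ (∅ : Finset α)}) |>.2 this, Finset.sum_empty]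
  | @insert a s ha ih =>
    rw [Finset.sum_insert ha, ← ih, ← ENat.card_sum]
    refine ENat.card_congr
      { toFun := fun p => if h : p.1.1 = a then Sum.inl (h ▸ p.1.2)
          else Sum.inr ⟨p.1, (Finset.mem_insert.1 p.2).resolve_left h⟩
        invFun := fun q => q.elim (fun x => ⟨⟨a, x⟩, Finset.mem_insert_self a s⟩)
          fun p => ⟨p.1, Finset.mem_insert_of_mem p.2⟩
        left_inv := ?_
        right_inv := ?_ }
    · rintro ⟨⟨b, x⟩, hb⟩
      by_cases h : b = a
      · subst h; simp
      · simp [h]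
    · rintro (x | ⟨⟨b, x⟩, hb⟩)
      · simp
      · have h : b ≠ a := fun e => ha (e ▸ hb)
        simp [h]

/-- `card (Σ a, f a) = ∑' a, card (f a)` in `ℕ∞` -/
theorem card_sigma {α : Type u} (f : α → Type v) :
    ENat.card (Σ a, f a) = ∑' a, ENat.card (f a) := by
  classical
  refine (HasSum.tsum_eq ?_).symm
  refine tendsto_atTop_isLUB (fun s t hst => Finset.sum_le_sum_of_subset hst) ⟨?_, ?_⟩
  · rintro _ ⟨s, rfl⟩
    show ∑ a ∈ s, ENat.card (f a) ≤ _
    rw [← card_sigma_finset]
    exact ENat.card_le_card_of_injective Subtype.val_injective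
  · intro b hb
    refine ENat.forall_natCast_le_iff_le.1 fun n hn => ?_
    obtain ⟨S, hS⟩ : ∃ S : Finset (Σ a, f a), S.card = n := by
      by_cases hfin : Finite (Σ a, f a)
      · let _ := Fintype.ofFinite (Σ a, f a)
        have h : n ≤ (Finset.univ : Finset (Σ a, f a)).card := by
          rw [ENat.card_eq_coe_fintype_card, Nat.cast_le] at hn
          simpa using hn
        obtain ⟨S, -, hS⟩ := Finset.exists_subset_card_eq h
        exact ⟨S, hS⟩
      · rw [not_finite_iff_infinite] at hfin
        exact Infinite.exists_subset_card_eq _ n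
    refine le_trans ?_ (hb ⟨S.image Sigma.fst, rfl⟩)
    show (n : ℕ∞) ≤ ∑ a ∈ S.image Sigma.fst, ENat.card (f a)
    rw [← card_sigma_finset, ← hS]
    refine le_trans (le_of_eq ?_) (ENat.card_le_card_of_injective
      (f := fun p : S => (⟨p.1, Finset.mem_image_of_mem _ p.2⟩ : {p : Σ a, f a // p.1 ∈ S.image Sigma.fst}))
      fun p q h => Subtype.ext (congrArg (fun r : {p : Σ a, f a // p.1 ∈ S.image Sigma.fst} => r.1) h))
    simp

end Groth.Agent.NormDim1
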