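import Groth.Agent.EGA2Curve.RelNormal
import Groth.Agent.KrullAkizuki.Basic
import Groth.Prelude.Def_Curv2
import Mathlib

/-!
# Normalization of an integral noetherian scheme of dimension one (Krull–Akizuki)
-/

set_option autoImplicit false
set_option linter.style.haveILetI false

universe u

open CategoryTheory AlgebraicGeometry Opposite
open scoped Pointwise

namespace Groth.Agent.NormDim1

section Residue

variable {X Y : Scheme.{u}} (f : Y ⟶ X) {U : X.Opens}

/-- evaluation of a section in the residue field -/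
noncomputable def evalAt {Z : Scheme.{u}} (W : Z.Opens) (z : Z) (hz : z ∈ W) :
    Γ(Z, W) →+* Z.residueField z :=
  (Z.presheaf.germ W z hz ≫ Z.residue z).hom

theorem residueFieldMap_evalAt (y : Y) (hy : f y ∈ U) (a : Γ(X, U)) :
    (f.residueFieldMap y).hom (evalAt U (f y) hy a) = evalAt (f ⁻¹ᵁ U) y hy ((f.app U).hom a) := by
  show ((X.presheaf.germ U (f y) hy ≫ X.residue (f y)) ≫ f.residueFieldMap y).hom a =
    (f.app U ≫ Y.presheaf.germ (f ⁻¹ᵁ U) y hy ≫ Y.residue y).hom a
  rw [Category.assoc, Scheme.residue_residueFieldMap, ← Category.assoc (X.presheaf.germ U (f y) hy),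
    f.germ_stalkMap U y hy, Category.assoc]

theorem ker_evalAt {Z : Scheme.{u}} {W : Z.Opens} (hW : IsAffineOpen W) (z : Z) (hz : z ∈ W) :
    RingHom.ker (evalAt W z hz) = (hW.primeIdealOf ⟨z, hz⟩).asIdeal := by
  rw [hW.primeIdealOf_eq_map_closedPoint]
  ext a
  simp only [evalAt, RingHom.mem_ker, CommRingCat.hom_comp, RingHom.comp_apply]
  exact (IsLocalRing.residue_eq_zero_iff _)

theorem exists_eq_div {Z : Scheme.{u}} {W : Z.Opens} (hW : IsAffineOpen W) (z : Z) (hz : z ∈ W)
    (w : Z.residueField z) : ∃ a b : Γ(Z, W), w = evalAt W z hz a / evalAt W z hz b := by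
  let _ := Z.presheaf.algebra_section_stalk ⟨z, hz⟩
  have := hW.isLocalization_stalk ⟨z, hz⟩
  obtain ⟨v, rfl⟩ := Z.residue_surjective z w
  obtain ⟨a, ⟨b, hb⟩, rfl⟩ := IsLocalization.exists_mk'_eq (hW.primeIdealOf ⟨z, hz⟩).asIdeal.primeCompl v
  refine ⟨a, b, ?_⟩
  have hb' : evalAt W z hz b ≠ 0 := fun h => hb (by
    rw [← ker_evalAt hW z hz]
    exact h)
  rw [eq_div_iff hb']
  simp only [evalAt, CommRingCat.hom_comp, RingHom.comp_apply]
  rw [← map_mul]
  exact congrArg _ (IsLocalization.mk'_spec (M := (hW.primeIdealOf ⟨z, hz⟩).asIdeal.primeCompl)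
    (Z.presheaf.stalk z) a ⟨b, hb⟩)

/-- finiteness of a residue field extension, read off on an affine chart -/
theorem finite_residueFieldMap (hV : IsAffineOpen (f ⁻¹ᵁ U)) (y : Y) (hy : f y ∈ U)
    (G : Finset Γ(Y, f ⁻¹ᵁ U))
    (h : ∀ b : Γ(Y, f ⁻¹ᵁ U), ∃ (c : Γ(X, U)) (coef : Γ(Y, f ⁻¹ᵁ U) → Γ(X, U)),
      evalAt U (f y) hy c ≠ 0 ∧ evalAt (f ⁻¹ᵁ U) y hy ((f.app U).hom c * b) =
        evalAt (f ⁻¹ᵁ U) y hy (∑ g ∈ G, (f.app U).hom (coef g) * g)) :
    (f.residueFieldMap y).hom.Finite := by
  algebraize [(f.residueFieldMap y).hom]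
  let e := evalAt (f ⁻¹ᵁ U) y hy
  let W : Submodule (X.residueField (f y)) (Y.residueField y) :=
    Submodule.span _ (e '' (G : Set Γ(Y, f ⁻¹ᵁ U)))
  have hWfin : Module.Finite (X.residueField (f y)) W :=
    Module.Finite.span_of_finite _ (G.finite_toSet.image _)
  have hmem : ∀ b, e b ∈ W := by
    intro b
    obtain ⟨c, coef, hc, hcb⟩ := h b
    have h1 : evalAt U (f y) hy c • e b ∈ W := by
      rw [Algebra.smul_def]
      show (f.residueFieldMap y).hom (evalAt U (f y) hy c) * e b ∈ W
      rw [residueFieldMap_evalAt, ← map_mul, hcb, map_sum]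
      refine W.sum_mem fun g hg => ?_
      rw [map_mul, ← residueFieldMap_evalAt]
      exact W.smul_mem (evalAt U (f y) hy (coef g)) (Submodule.subset_span ⟨g, hg, rfl⟩) |> fun h =>
        by rwa [Algebra.smul_def] at h
    simpa [smul_smul, inv_mul_cancel₀ hc] using W.smul_mem (evalAt U (f y) hy c)⁻¹ h1
  let S := Algebra.adjoin (X.residueField (f y)) (Set.range e)
  have hS : Subalgebra.toSubmodule S ≤ W := by
    rw [Algebra.adjoin_eq_span, Submodule.span_le]
    intro z hz
    obtain ⟨b, rfl⟩ : z ∈ Set.range e := by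
      induction hz using Submonoid.closure_induction with
      | mem x hx => exact hx
      | one => exact ⟨1, map_one e⟩
      | mul a b _ _ ha hb =>
        obtain ⟨a', rfl⟩ := ha
        obtain ⟨b', rfl⟩ := hb
        exact ⟨a' * b', map_mul e a' b'⟩
    exact hmem b
  have hSfin : Module.Finite (X.residueField (f y)) S :=
    Module.Finite.of_injective (Submodule.inclusion hS) (Submodule.inclusion_injective hS)
  have hfield : IsField S := isField_of_isIntegral_of_isField' (Field.toIsField (X.residueField (f y)))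
  have hall : ∀ w : Y.residueField y, w ∈ W := by
    intro w
    obtain ⟨a, b, rfl⟩ := exists_eq_div hV y hy w
    by_cases hb : e b = 0
    · show e a / e b ∈ W
      rw [hb, div_zero]; exact W.zero_mem
    obtain ⟨b', hb'⟩ := hfield.mul_inv_cancel
      (a := ⟨e b, Algebra.subset_adjoin ⟨b, rfl⟩⟩) (fun h0 => hb (congrArg Subtype.val h0))
    have h2 : e b * (b' : Y.residueField y) = 1 := congrArg Subtype.val hb'
    show e a / e b ∈ W
    rw [div_eq_mul_inv, inv_eq_of_mul_eq_one_right h2]
    exact hS (S.mul_mem (Algebra.subset_adjoin ⟨a, rfl⟩) b'.2)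
  exact ⟨(show W = ⊤ from eq_top_iff.2 fun w _ => hall w) ▸ Submodule.fg_span (G.finite_toSet.image _)⟩

end Residue

variable (X : Scheme.{u}) [IsIntegral X]
  [QuasiCompact (X.fromSpecStalk (genericPoint X))] [QuasiSeparated (X.fromSpecStalk (genericPoint X))]

theorem hg : X.fromSpecStalk (genericPoint X) =
    Spec.map (CommRingCat.ofHom (RingHom.id X.functionField)) ≫ X.fromSpecStalk (genericPoint X) := by
  rw [CommRingCat.ofHom_id, Spec.map_id]
  exact (Category.id_comp _).symm

instance instIsIntegral : IsIntegral (Curv2.normalization X) :=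
  inferInstanceAs (IsIntegral (Scheme.Hom.normalization (X := Spec (CommRingCat.of X.functionField))
    (X.fromSpecStalk (genericPoint X))))

instance instIntegralHom : IsIntegralHom (Curv2.normalizationι X) :=
  inferInstanceAs (IsIntegralHom (X.fromSpecStalk (genericPoint X)).fromNormalization)

variable {X}

/-- sections of the normalization over an affine open, inside the function field -/
theorem exists_chart {U : X.Opens} (hU : IsAffineOpen U) (hη : genericPoint X ∈ U) :
    ∃ θ : Γ(Curv2.normalization X, Curv2.normalizationι X ⁻¹ᵁ U) →+* X.functionField,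
      Function.Injective θ ∧
      (∀ a, θ (((Curv2.normalizationι X).app U).hom a) = (X.presheaf.germ U _ hη).hom a) ∧
      ∀ z, z ∈ θ.range ↔ ∃ q : Polynomial Γ(X, U), q.Monic ∧
        Polynomial.eval₂ (X.presheaf.germ U _ hη).hom z q = 0 :=
  let ⟨c⟩ := EGA2Curve.nonempty_chart (K := X.functionField) (hg X) hU hη
  ⟨c.θ, c.inj, c.comp, c.range⟩

theorem krullDimLE_one {U : X.Opens} (hU : IsAffineOpen U) (hdim : topologicalKrullDim X ≤ 1) :
    Ring.KrullDimLE 1 Γ(X, U) := by
  rw [Ring.krullDimLE_iff, ← PrimeSpectrum.topologicalKrullDim_eq_ringKrullDim]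
  exact (hU.fromSpec.isOpenEmbedding.isInducing.topologicalKrullDim_le).trans hdim

variable [IsLocallyNoetherian X] (hdim : topologicalKrullDim X ≤ 1)
include hdim

theorem isDedekindDomain_preimage {U : X.Opens} (hU : IsAffineOpen U) (hη : genericPoint X ∈ U) :
    IsDedekindDomain Γ(Curv2.normalization X, Curv2.normalizationι X ⁻¹ᵁ U) := by
  have : Nonempty U := ⟨⟨_, hη⟩⟩
  have := IsLocallyNoetherian.component_noetherian (X := X) ⟨U, hU⟩
  have := krullDimLE_one hU hdim
  let _ : Algebra Γ(X, U) X.functionField := (X.presheaf.germ U _ hη).hom.toAlgebra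
  have : IsFractionRing Γ(X, U) X.functionField := functionField_isFractionRing_of_isAffineOpen X U hU
  obtain ⟨θ, hθ, -, hrange⟩ := exists_chart hU hη
  have := KrullAkizuki.isDedekindDomain_integralClosure Γ(X, U) X.functionField
  let e : Γ(Curv2.normalization X, Curv2.normalizationι X ⁻¹ᵁ U) ≃+*
      integralClosure Γ(X, U) X.functionField :=
    RingEquiv.ofBijective (θ.codRestrict (integralClosure Γ(X, U) X.functionField).toSubring
      fun b => (hrange _).1 ⟨b, rfl⟩)
    ⟨fun a b h => hθ (congrArg Subtype.val h), fun z => by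
      obtain ⟨b, hb⟩ := (hrange _).2 z.2
      exact ⟨b, Subtype.ext hb⟩⟩
  have : IsDomain Γ(Curv2.normalization X, Curv2.normalizationι X ⁻¹ᵁ U) :=
    e.toMulEquiv.isDomain
  exact
    { toIsDomain := inferInstance
      toIsNoetherian := isNoetherianRing_of_ringEquiv _ e.symm
      toDimensionLEOne := ⟨fun {p} hp0 hp => by
        have hne : p.comap e.symm ≠ ⊥ := fun h => hp0 (by
          refine Ideal.comap_injective_of_surjective e.symm e.symm.surjective (h.trans ?_)
          exact (Ideal.comap_bot_of_injective e.symm e.symm.injective).symm)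
        have : (p.comap e.symm).IsMaximal := Ideal.IsPrime.isMaximal inferInstance hne
        rw [← Ideal.map_comap_of_surjective e.symm e.symm.surjective p]
        exact Ideal.map_isMaximal_of_equiv e.symm⟩
      toIsIntegralClosure := by
        have : IsIntegrallyClosed Γ(Curv2.normalization X, Curv2.normalizationι X ⁻¹ᵁ U) :=
          IsIntegrallyClosed.of_equiv e.symm
        exact inferInstance }

theorem exists_generators {U : X.Opens} (hU : IsAffineOpen U) (hη : genericPoint X ∈ U)
    (a : Γ(X, U)) (ha : a ≠ 0) :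
    ∃ G : Finset Γ(Curv2.normalization X, Curv2.normalizationι X ⁻¹ᵁ U),
      ∀ b, ∃ (coef : Γ(Curv2.normalization X, Curv2.normalizationι X ⁻¹ᵁ U) → Γ(X, U))
        (t : Γ(Curv2.normalization X, Curv2.normalizationι X ⁻¹ᵁ U)),
        b = ∑ g ∈ G, ((Curv2.normalizationι X).app U).hom (coef g) * g +
          ((Curv2.normalizationι X).app U).hom a * t := by
  classical
  have : Nonempty U := ⟨⟨_, hη⟩⟩
  have := IsLocallyNoetherian.component_noetherian (X := X) ⟨U, hU⟩
  have := krullDimLE_one hU hdim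
  let _ : Algebra Γ(X, U) X.functionField := (X.presheaf.germ U _ hη).hom.toAlgebra
  have : IsFractionRing Γ(X, U) X.functionField := functionField_isFractionRing_of_isAffineOpen X U hU
  let _ : Algebra Γ(X, U) Γ(Curv2.normalization X, Curv2.normalizationι X ⁻¹ᵁ U) :=
    ((Curv2.normalizationι X).app U).hom.toAlgebra
  obtain ⟨θ, hθ, hcomp, -⟩ := exists_chart hU hη
  let θ' : Γ(Curv2.normalization X, Curv2.normalizationι X ⁻¹ᵁ U) →ₐ[Γ(X, U)] X.functionField :=
    { θ with commutes' := hcomp }
  let E := LinearEquiv.ofInjective θ'.toLinearMap hθ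
  have hlen := KrullAkizuki.length_quotient_le (LinearMap.range θ'.toLinearMap) a ha
  have hmap : (a • (⊤ : Submodule Γ(X, U) Γ(Curv2.normalization X, Curv2.normalizationι X ⁻¹ᵁ U))).map
      (E : _ →ₗ[Γ(X, U)] _) = a • (⊤ : Submodule Γ(X, U) (LinearMap.range θ'.toLinearMap)) := by
    rw [Submodule.map_pointwise_smul]
    congr 1
    exact LinearMap.range_eq_top.2 E.surjective ▸ (LinearMap.range_eq_map _).symm
  rw [← LinearEquiv.length_eq (Submodule.Quotient.equiv _ _ E hmap)] at hlen
  have hN := (isFiniteLength_iff_isNoetherian_isArtinian.1 (Module.length_ne_top_iff.1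
    (ne_top_of_le_ne_top (Ring.ord_ne_top (R := Γ(X, U)) (mem_nonZeroDivisors_of_ne_zero ha)) hlen))).1
  obtain ⟨S, hS⟩ := hN.noetherian ⊤
  choose s hs using fun z => Submodule.Quotient.mk_surjective
    (a • (⊤ : Submodule Γ(X, U) Γ(Curv2.normalization X, Curv2.normalizationι X ⁻¹ᵁ U))) z
  refine ⟨S.image s, fun b => ?_⟩
  have hb : Submodule.Quotient.mk b ∈ Submodule.span Γ(X, U)
      (S : Set (Γ(Curv2.normalization X, Curv2.normalizationι X ⁻¹ᵁ U) ⧸
        (a • (⊤ : Submodule Γ(X, U) Γ(Curv2.normalization X, Curv2.normalizationι X ⁻¹ᵁ U))))) :=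
    hS ▸ trivial
  have hb' : ∃ v ∈ Submodule.span Γ(X, U) (↑(S.image s) : Set Γ(Curv2.normalization X, Curv2.normalizationι X ⁻¹ᵁ U)),
      (Submodule.Quotient.mk v : _ ⧸ (a • (⊤ : Submodule Γ(X, U) _))) = Submodule.Quotient.mk b := by
    revert hb
    generalize (Submodule.Quotient.mk b :
      _ ⧸ (a • (⊤ : Submodule Γ(X, U) Γ(Curv2.normalization X, Curv2.normalizationι X ⁻¹ᵁ U)))) = z
    intro hb
    induction hb using Submodule.span_induction with
    | mem x hx => exact ⟨s x, Submodule.subset_span (Finset.mem_image_of_mem s hx), hs x⟩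
    | zero => exact ⟨0, Submodule.zero_mem _, rfl⟩
    | add x y _ _ hx hy =>
      obtain ⟨v, hv, hv'⟩ := hx
      obtain ⟨w, hw, hw'⟩ := hy
      exact ⟨v + w, Submodule.add_mem _ hv hw, by rw [Submodule.Quotient.mk_add, hv', hw']⟩
    | smul r x _ hx =>
      obtain ⟨v, hv, hv'⟩ := hx
      exact ⟨r • v, Submodule.smul_mem _ r hv, by rw [Submodule.Quotient.mk_smul, hv']⟩
  obtain ⟨v, hv, hvb⟩ := hb'
  obtain ⟨coef, -, hcoef⟩ := Submodule.mem_span_finset.1 hv
  obtain ⟨t, -, ht⟩ := (Submodule.mem_smul_pointwise_iff_exists _ _ _).1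
    ((Submodule.Quotient.eq _).1 hvb.symm)
  refine ⟨coef, t, ?_⟩
  show b = ∑ g ∈ S.image s, coef g • g + a • t
  rw [hcoef, ht]
  abel

theorem finite_residueField (x' : (Curv2.normalization X : Scheme.{u})) :
    ((Curv2.normalizationι X).residueFieldMap x').hom.Finite := by
  classical
  obtain ⟨_, ⟨U, hU, rfl⟩, hxU, -⟩ := X.isBasis_affineOpens.exists_subset_of_mem_open
    (Set.mem_univ (Curv2.normalizationι X x')) isOpen_univ
  have hη : genericPoint X ∈ U :=
    ((genericPoint_spec X).mem_open_set_iff U.isOpen).2 ⟨_, trivial, hxU⟩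
  have : Nonempty U := ⟨⟨_, hη⟩⟩
  have hV : IsAffineOpen (Curv2.normalizationι X ⁻¹ᵁ U) := hU.preimage _
  by_cases hp : RingHom.ker (evalAt U _ hxU) = ⊥
  · obtain ⟨θ, hθ, hcomp, -⟩ := exists_chart hU hη
    let _ : Algebra Γ(X, U) X.functionField := (X.presheaf.germ U _ hη).hom.toAlgebra
    have : IsFractionRing Γ(X, U) X.functionField := functionField_isFractionRing_of_isAffineOpen X U hU
    refine finite_residueFieldMap _ hV x' hxU {1} fun b => ?_
    obtain ⟨n, d, hd, hnd⟩ := IsFractionRing.div_surjective Γ(X, U) (θ b)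
    refine ⟨d, fun _ => n, fun h0 => nonZeroDivisors.ne_zero hd (by
      have := (RingHom.mem_ker (f := evalAt U _ hxU)).2 h0
      rw [hp] at this
      exact this), congrArg _ (hθ ?_)⟩
    rw [Finset.sum_singleton, mul_one, map_mul, hcomp, hcomp, ← hnd]
    show algebraMap Γ(X, U) X.functionField d * _ = algebraMap Γ(X, U) X.functionField n
    rw [mul_div_cancel₀ _ (IsFractionRing.to_map_ne_zero_of_mem_nonZeroDivisors hd)]
  · obtain ⟨a, ha, ha0⟩ := Submodule.exists_mem_ne_zero_of_ne_bot hp
    obtain ⟨G, hG⟩ := exists_generators hdim hU hη a ha0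
    refine finite_residueFieldMap _ hV x' hxU G fun b => ?_
    obtain ⟨coef, t, hb⟩ := hG b
    refine ⟨1, coef, by rw [map_one]; exact one_ne_zero, ?_⟩
    rw [map_one, one_mul]
    conv_lhs => rw [hb]
    rw [map_add, map_mul _ _ t, ← residueFieldMap_evalAt, show evalAt U _ hxU a = 0 from ha, map_zero,
      zero_mul, add_zero]

theorem finite_fibre (x : X) :
    Finite {x' : ↥(Curv2.normalization X) // (Curv2.normalizationι X).base x' = x} := by
  classical
  obtain ⟨_, ⟨U, hU, rfl⟩, hxU, -⟩ := X.isBasis_affineOpens.exists_subset_of_mem_open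
    (Set.mem_univ x) isOpen_univ
  have hη : genericPoint X ∈ U :=
    ((genericPoint_spec X).mem_open_set_iff U.isOpen).2 ⟨_, trivial, hxU⟩
  have : Nonempty U := ⟨⟨_, hη⟩⟩
  let ν := Curv2.normalizationι X
  have hV : IsAffineOpen (ν ⁻¹ᵁ U) := hU.preimage _
  have := isDedekindDomain_preimage hdim hU hη
  obtain ⟨θ, hθ, hcomp, -⟩ := exists_chart hU hη
  have happ : Function.Injective (ν.app U).hom := fun a b h =>
    AlgebraicGeometry.germ_injective_of_isIntegral X (genericPoint X) hη
      (((hcomp a).symm.trans (congrArg θ h)).trans (hcomp b))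
  let _ : Algebra Γ(X, U) Γ(Curv2.normalization X, ν ⁻¹ᵁ U) := (ν.app U).hom.toAlgebra
  have : Algebra.IsIntegral Γ(X, U) Γ(Curv2.normalization X, ν ⁻¹ᵁ U) := ⟨ν.isIntegral_app U hU⟩
  let p := (hU.primeIdealOf ⟨x, hxU⟩).asIdeal
  have hmem : ∀ x' : {x' : ↥(Curv2.normalization X) // ν.base x' = x}, x'.1 ∈ ν ⁻¹ᵁ U := fun x' =>
    show ν.base x'.1 ∈ U by rw [x'.2]; exact hxU
  let F : {x' : ↥(Curv2.normalization X) // ν.base x' = x} →
      {P : Ideal Γ(Curv2.normalization X, ν ⁻¹ᵁ U) // P.IsPrime ∧ P.comap (ν.app U).hom = p} := fun x' =>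
    ⟨(hV.primeIdealOf ⟨x'.1, hmem x'⟩).asIdeal, inferInstance, by
      have h := IsAffineOpen.comap_primeIdealOf_appLE (f := ν) U hU (ν ⁻¹ᵁ U) hV le_rfl (hmem x')
      rw [← Scheme.Hom.app_eq_appLE] at h
      refine (congrArg PrimeSpectrum.asIdeal h).trans ?_
      exact congrArg (fun z : U => (hU.primeIdealOf z).asIdeal) (Subtype.ext x'.2)⟩
  have hF : Function.Injective F := fun a b h => by
    have h1 := congrArg hV.fromSpec.base (PrimeSpectrum.ext (x := hV.primeIdealOf ⟨a.1, hmem a⟩)
      (y := hV.primeIdealOf ⟨b.1, hmem b⟩) (congrArg Subtype.val h))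
    rw [hV.fromSpec_primeIdealOf, hV.fromSpec_primeIdealOf] at h1
    exact Subtype.ext h1
  refine @Finite.of_injective _ _ ?_ F hF
  by_cases hp : p = ⊥
  · refine @Finite.of_subsingleton _ ⟨fun P Q => Subtype.ext ?_⟩
    have h1 := Ideal.eq_bot_of_comap_eq_bot (R := Γ(X, U)) (P.2.2.trans hp)
    have h2 := Ideal.eq_bot_of_comap_eq_bot (R := Γ(X, U)) (Q.2.2.trans hp)
    rw [h1, h2]
  · obtain ⟨a, ha, ha0⟩ := Submodule.exists_mem_ne_zero_of_ne_bot hp
    have hne : (ν.app U).hom a ≠ 0 := fun h => ha0 (happ (h.trans (map_zero _).symm))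
    have := (Ideal.finite_factors (show Ideal.span {(ν.app U).hom a} ≠ 0 from fun h =>
      hne (Ideal.span_singleton_eq_bot.1 h))).to_subtype
    refine Finite.of_injective (fun P => (⟨⟨P.1, P.2.1, fun h => hne ?_⟩, ?_⟩ :
      {v : IsDedekindDomain.HeightOneSpectrum Γ(Curv2.normalization X, ν ⁻¹ᵁ U) |
        v.asIdeal ∣ Ideal.span {(ν.app U).hom a}})) fun P Q h => Subtype.ext ?_
    · exact (Ideal.mem_bot).1 (h ▸ (show a ∈ P.1.comap (ν.app U).hom by rw [P.2.2]; exact ha))
    · show P.1 ∣ Ideal.span {(ν.app U).hom a}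
      rw [Ideal.dvd_iff_le, Ideal.span_le, Set.singleton_subset_iff]
      exact (show a ∈ P.1.comap (ν.app U).hom by rw [P.2.2]; exact ha)
    · exact congrArg (fun v => v.1.asIdeal) h

theorem isLocallyNoetherian_normalization : IsLocallyNoetherian (Curv2.normalization X) := by
  let S : X → X.affineOpens := fun x =>
    ⟨(X.isBasis_affineOpens.exists_subset_of_mem_open (Set.mem_univ x) isOpen_univ).choose_spec.1.choose,
      (X.isBasis_affineOpens.exists_subset_of_mem_open (Set.mem_univ x) isOpen_univ).choose_spec.1.choose_spec.1⟩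
  have hS : ∀ x, x ∈ (S x : X.Opens) := fun x => by
    obtain ⟨h1, h2, -⟩ := (X.isBasis_affineOpens.exists_subset_of_mem_open (Set.mem_univ x) isOpen_univ).choose_spec
    exact h1.choose_spec.2.symm.subset h2
  refine isLocallyNoetherian_of_affine_cover (ι := X)
    (S := fun x => ⟨Curv2.normalizationι X ⁻¹ᵁ (S x : X.Opens), (S x).2.preimage _⟩) ?_ fun x => ?_
  · refine top_le_iff.1 fun y _ => TopologicalSpace.Opens.mem_iSup.2 ⟨Curv2.normalizationι X y, ?_⟩
    exact hS _
  · have := isDedekindDomain_preimage hdim (S x).2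
      (((genericPoint_spec X).mem_open_set_iff (S x : X.Opens).isOpen).2 ⟨_, trivial, hS x⟩)
    exact inferInstance

theorem isDedekindDomain_affine (V : (Curv2.normalization X).affineOpens)
    (hne : ((V : (Curv2.normalization X).Opens) : Set ↥(Curv2.normalization X)).Nonempty) :
    IsDedekindDomain Γ(Curv2.normalization X, (V : (Curv2.normalization X).Opens)) := by
  have := isLocallyNoetherian_normalization hdim
  have : Nonempty (V : (Curv2.normalization X).Opens) := ⟨⟨_, hne.some_mem⟩⟩
  have := IsLocallyNoetherian.component_noetherian (X := Curv2.normalization X) V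
  let R := Γ(Curv2.normalization X, (V : (Curv2.normalization X).Opens))
  have hnorm := EGA2Curve.isNormalScheme_normalization' (K := X.functionField) (hg X)
  -- the local rings at all primes are integrally closed of dimension at most one
  have key : ∀ P : Ideal R, [P.IsPrime] → IsIntegrallyClosed (Localization.AtPrime P) ∧ P.height ≤ 1 := by
    intro P hP
    let x' := V.2.fromSpec ⟨P, hP⟩
    have hx' : x' ∈ (V : (Curv2.normalization X).Opens) := by
      have : x' ∈ Set.range V.2.fromSpec := ⟨_, rfl⟩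
      rwa [V.2.range_fromSpec] at this
    have hP' : (V.2.primeIdealOf ⟨x', hx'⟩).asIdeal = P := by
      have h : V.2.primeIdealOf ⟨x', hx'⟩ = ⟨P, hP⟩ :=
        V.2.fromSpec.isOpenEmbedding.injective (V.2.fromSpec_primeIdealOf ⟨x', hx'⟩)
      exact congrArg PrimeSpectrum.asIdeal h
    let _ := (Curv2.normalization X).presheaf.algebra_section_stalk ⟨x', hx'⟩
    have hloc : IsLocalization.AtPrime ((Curv2.normalization X).presheaf.stalk x') P := by
      have := V.2.isLocalization_stalk ⟨x', hx'⟩
      simpa only [hP'] using this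
    refine ⟨?_, ?_⟩
    · have : IsIntegrallyClosed ((Curv2.normalization X).presheaf.stalk x') := (hnorm x').2
      exact IsIntegrallyClosed.of_equiv
        (IsLocalization.algEquiv P.primeCompl ((Curv2.normalization X).presheaf.stalk x')
          (Localization.AtPrime P)).toRingEquiv
    · obtain ⟨_, ⟨U, hU, rfl⟩, hxU, -⟩ := X.isBasis_affineOpens.exists_subset_of_mem_open
        (Set.mem_univ (Curv2.normalizationι X x')) isOpen_univ
      have hη : genericPoint X ∈ U :=
        ((genericPoint_spec X).mem_open_set_iff U.isOpen).2 ⟨_, trivial, hxU⟩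
      have := isDedekindDomain_preimage hdim hU hη
      have hW : IsAffineOpen (Curv2.normalizationι X ⁻¹ᵁ U) := hU.preimage _
      have h1 := IsLocalization.AtPrime.ringKrullDim_eq_height P ((Curv2.normalization X).presheaf.stalk x')
      let _ := (Curv2.normalization X).presheaf.algebra_section_stalk (U := Curv2.normalizationι X ⁻¹ᵁ U) ⟨x', hxU⟩
      have := hW.isLocalization_stalk ⟨x', hxU⟩
      have h2 := IsLocalization.AtPrime.ringKrullDim_eq_height (hW.primeIdealOf ⟨x', hxU⟩).asIdeal
        ((Curv2.normalization X).presheaf.stalk x')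
      have h3 : ((hW.primeIdealOf ⟨x', hxU⟩).asIdeal.height : WithBot ℕ∞) ≤ 1 :=
        (Ideal.height_le_ringKrullDim_of_ne_top Ideal.IsPrime.ne_top').trans
          (Ring.krullDimLE_iff.1 inferInstance)
      rw [← h2, h1] at h3
      exact WithBot.coe_le_coe.1 h3
  exact
    { toIsDomain := inferInstance
      toIsNoetherian := inferInstance
      toDimensionLEOne := ⟨fun {p} hp0 hp => by
        obtain ⟨M, hM, hpM⟩ := Ideal.exists_le_maximal p hp.ne_top
        rcases hpM.lt_or_eq with hlt | rfl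
        · exfalso
          have h1 := Ideal.height_add_one_le_of_lt_of_isPrime hlt
          have h2 : (1 : ℕ∞) ≤ p.height := Order.one_le_iff_pos.2 (pos_iff_ne_zero.2 fun h0 =>
            hp0 (Ideal.height_eq_zero_iff_eq_bot.1 h0))
          have h3 : (1 : ℕ∞) + 1 ≤ 1 := (add_le_add h2 le_rfl).trans (h1.trans (key M).2)
          have h4 : (2 : ℕ) ≤ 1 := by exact_mod_cast h3
          omega
        · exact hM⟩
      toIsIntegralClosure := by
        have : IsIntegrallyClosed R := IsIntegrallyClosed.of_localization_maximal fun p _ _ => (key p).1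
        exact inferInstance }

end Groth.Agent.NormDim1
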