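import Groth.Agent.NormDim1.Basic
import Groth.Agent.NormDim1.CardSigma
import Groth.Prelude.Def_Brnch
import Mathlib

/-!
# Branches of an integral scheme and the fibres of its normalization
-/

set_option autoImplicit false
set_option linter.style.haveILetI false

universe u

open CategoryTheory AlgebraicGeometry

namespace Groth.Agent.NormDim1

theorem nilradical_eq_bot' (L : Type u) [CommRing L] [IsDomain L] : nilradical L = ⊥ :=
  nilradical_eq_zero L

theorem isDomain_red (L : Type u) [CommRing L] [IsDomain L] : IsDomain (CAlg2.red L) := by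
  have : (nilradical L).IsPrime := by rw [nilradical_eq_bot']; exact Ideal.isPrime_bot
  exact Ideal.Quotient.isDomain _

theorem finite_minimalPrimes_of_isDomain (L : Type u) [CommRing L] [IsDomain L] :
    (minimalPrimes L).Finite := by
  rw [IsDomain.minimalPrimes_eq_singleton_bot]
  exact Set.finite_singleton _

/-- the structure map of the integral closure of the reduction -/
noncomputable def toNormRed (L : Type u) [CommRing L] : L →+* CAlg2.normRed L :=
  (algebraMap (CAlg2.red L) (CAlg2.normRed L)).comp (Ideal.Quotient.mk (nilradical L))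

theorem toNormRed_isIntegral (L : Type u) [CommRing L] : (toNormRed L).IsIntegral := by
  refine RingHom.IsIntegral.trans _ _ (RingHom.isIntegral_of_surjective _ Ideal.Quotient.mk_surjective) ?_
  intro z
  exact Algebra.IsIntegral.isIntegral (R := CAlg2.red L) z

/-- the integral closure in `Frac (A_p)` is a localization of the integral closure in `Frac A` -/
theorem exists_toNormRed {A L B K : Type u} [CommRing A] [CommRing L] [IsDomain L] [CommRing B]
    [Field K] [Algebra A K] [IsFractionRing A K] [Algebra A L] [Algebra A B]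
    (p : Ideal A) [p.IsPrime] [IsLocalization.AtPrime L p]
    (θ : B →ₐ[A] K) (hθ : Function.Injective θ) (hrange : ∀ z, z ∈ θ.range ↔ _root_.IsIntegral A z) :
    ∃ j : B →+* CAlg2.normRed L, Function.Injective j ∧
      (∀ a, j (algebraMap A B a) = toNormRed L (algebraMap A L a)) ∧
      ∀ z, ∃ (s : A) (b : B), s ∉ p ∧ toNormRed L (algebraMap A L s) * z = j b := by
  have : IsDomain A := (IsFractionRing.injective A K).isDomain _
  have := isDomain_red L
  let R := CAlg2.red L
  have hmk : Function.Bijective (Ideal.Quotient.mkₐ A (nilradical L)) := by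
    refine ⟨fun x y h => ?_, Ideal.Quotient.mk_surjective⟩
    have h' : x - y ∈ nilradical L := Ideal.Quotient.eq.1 h
    rw [nilradical_eq_bot', Ideal.mem_bot] at h'
    exact sub_eq_zero.1 h'
  have : IsLocalization p.primeCompl R :=
    IsLocalization.isLocalization_of_algEquiv p.primeCompl (AlgEquiv.ofBijective _ hmk)
  let K' := FractionRing R
  have hK : ∀ (a : A), algebraMap A K' a = algebraMap R K' (algebraMap A R a) :=
    IsScalarTower.algebraMap_apply A R K'
  have : FaithfulSMul A K' := (faithfulSMul_iff_algebraMap_injective _ _).2 (by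
    rw [IsScalarTower.algebraMap_eq A R K', RingHom.coe_comp]
    exact (IsFractionRing.injective R K').comp
      (IsLocalization.injective R (Ideal.primeCompl_le_nonZeroDivisors p)))
  have : IsFractionRing A K' := IsFractionRing.of_field _ _ fun z => by
    obtain ⟨l₁, l₂, -, rfl⟩ := IsFractionRing.div_surjective R z
    obtain ⟨⟨a₁, s₁⟩, h₁⟩ := IsLocalization.surj p.primeCompl l₁
    obtain ⟨⟨a₂, s₂⟩, h₂⟩ := IsLocalization.surj p.primeCompl l₂
    refine ⟨a₁ * s₂, s₁ * a₂, ?_⟩
    have hs : ∀ s : p.primeCompl, algebraMap A K' (s : A) ≠ 0 := fun s h0 => by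
      refine s.2 (?_ : (s : A) ∈ p)
      rw [(FaithfulSMul.algebraMap_injective A K') (h0.trans (map_zero _).symm)]
      exact p.zero_mem
    have e₁ := congrArg (algebraMap R K') h₁
    have e₂ := congrArg (algebraMap R K') h₂
    simp only [map_mul, ← hK] at e₁ e₂
    rw [map_mul, map_mul, ← e₁, ← e₂]
    rw [mul_assoc (algebraMap R K' l₁), mul_left_comm (algebraMap A K' (s₁ : A)),
      mul_div_mul_right _ _ (mul_ne_zero (hs s₁) (hs s₂))]
  let e : K ≃ₐ[A] K' := IsLocalization.algEquiv (nonZeroDivisors A) _ _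
  let g : B →ₐ[A] K' := e.toAlgHom.comp θ
  have hgmem : ∀ b, g b ∈ integralClosure R K' := fun b =>
    IsIntegral.tower_top (A := R) (IsIntegral.map e.toAlgHom ((hrange (θ b)).1 ⟨b, rfl⟩))
  let j : B →+* CAlg2.normRed L := g.toRingHom.codRestrict (integralClosure R K').toSubring hgmem
  refine ⟨j, fun a b h => hθ (e.injective (congrArg Subtype.val h)), fun a => Subtype.ext ?_, fun z => ?_⟩
  · show g (algebraMap A B a) = algebraMap R K' (Ideal.Quotient.mk (nilradical L) (algebraMap A L a))
    rw [g.commutes, hK]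
    rfl
  · obtain ⟨⟨s, hs⟩, hsz⟩ :=
      (z.2 : _root_.IsIntegral R (z : K')).exists_multiple_integral_of_isLocalization p.primeCompl
    obtain ⟨b, hb⟩ := (hrange (e.symm ((⟨s, hs⟩ : p.primeCompl) • (z : K')))).2 (hsz.map e.symm.toAlgHom)
    refine ⟨s, b, hs, Subtype.ext ?_⟩
    show algebraMap R K' (Ideal.Quotient.mk (nilradical L) (algebraMap A L s)) * (z : K') = e (θ b)
    rw [show θ b = _ from hb, AlgEquiv.apply_symm_apply, Submonoid.smul_def, Algebra.smul_def, hK]
    rfl

variable {X : Scheme.{u}} [IsIntegral X]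
  [QuasiCompact (X.fromSpecStalk (genericPoint X))] [QuasiSeparated (X.fromSpecStalk (genericPoint X))]

omit [IsIntegral X] [QuasiCompact (X.fromSpecStalk (genericPoint X))] [QuasiSeparated (X.fromSpecStalk (genericPoint X))] in
theorem exists_fieldEquiv {B E E' : Type u} [CommRing B] [Field E] [Field E'] (e : B →+* E) (π : B →+* E')
    (hk : RingHom.ker e = RingHom.ker π) (he : ∀ z : E, ∃ a b, z = e a / e b)
    (hπ : ∀ z : E', ∃ a b, z = π a / π b) : ∃ ψ : E ≃+* E', ∀ b, ψ (e b) = π b := by
  haveI : (RingHom.ker e).IsPrime := RingHom.ker_isPrime e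
  letI : Algebra (B ⧸ RingHom.ker e) E := (RingHom.kerLift e).toAlgebra
  letI : Algebra (B ⧸ RingHom.ker e) E' :=
    (Ideal.Quotient.lift (RingHom.ker e) π fun a ha => RingHom.mem_ker.1 (hk ▸ ha)).toAlgebra
  haveI : FaithfulSMul (B ⧸ RingHom.ker e) E :=
    (faithfulSMul_iff_algebraMap_injective _ _).2 (RingHom.kerLift_injective e)
  haveI : FaithfulSMul (B ⧸ RingHom.ker e) E' :=
    (faithfulSMul_iff_algebraMap_injective _ _).2 (RingHom.lift_injective_of_ker_le_ideal _ _ hk.ge)
  haveI : IsFractionRing (B ⧸ RingHom.ker e) E := IsFractionRing.of_field _ _ fun z => by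
    obtain ⟨a, b, rfl⟩ := he z
    exact ⟨Ideal.Quotient.mk _ a, Ideal.Quotient.mk _ b, rfl⟩
  haveI : IsFractionRing (B ⧸ RingHom.ker e) E' := IsFractionRing.of_field _ _ fun z => by
    obtain ⟨a, b, rfl⟩ := hπ z
    exact ⟨Ideal.Quotient.mk _ a, Ideal.Quotient.mk _ b, rfl⟩
  let ψ : E ≃ₐ[B ⧸ RingHom.ker e] E' := IsLocalization.algEquiv (nonZeroDivisors _) _ _
  exact ⟨ψ.toRingEquiv, fun b => ψ.commutes (Ideal.Quotient.mk _ b)⟩

/-- the points over `x` are the maximal ideals of the integral closure of the local ring -/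
theorem branches (x : X) :
    ∃ F : {x' : ↥(Curv2.normalization X) // (Curv2.normalizationι X).base x' = x} ≃
        MaximalSpectrum (CAlg2.normRed (X.presheaf.stalk x)),
      ∀ x', ENat.card (Brnch.Emb (X.presheaf.stalk x) (F x')) =
        (letI := ((Curv2.normalizationι X).residueFieldMap x'.1).hom.toAlgebra
         ENat.card (Field.Emb (X.residueField ((Curv2.normalizationι X).base x'.1))
           ((Curv2.normalization X).residueField x'.1))) := by
  classical
  obtain ⟨_, ⟨U, hU, rfl⟩, hxU, -⟩ := X.isBasis_affineOpens.exists_subset_of_mem_open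
    (Set.mem_univ x) isOpen_univ
  have hη : genericPoint X ∈ U :=
    ((genericPoint_spec X).mem_open_set_iff U.isOpen).2 ⟨_, trivial, hxU⟩
  have : Nonempty U := ⟨⟨_, hη⟩⟩
  let ν := Curv2.normalizationι X
  let L := X.presheaf.stalk x
  let p := (hU.primeIdealOf ⟨x, hxU⟩).asIdeal
  letI : Algebra Γ(X, U) L := (X.presheaf.germ U x hxU).hom.toAlgebra
  haveI : IsLocalization.AtPrime L p := hU.isLocalization_stalk ⟨x, hxU⟩
  letI : Algebra Γ(X, U) X.functionField := (X.presheaf.germ U _ hη).hom.toAlgebra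
  haveI : IsFractionRing Γ(X, U) X.functionField := functionField_isFractionRing_of_isAffineOpen X U hU
  letI : Algebra Γ(X, U) Γ(Curv2.normalization X, ν ⁻¹ᵁ U) := (ν.app U).hom.toAlgebra
  obtain ⟨θ, hθ, hcomp, hrange⟩ := exists_chart hU hη
  let θ' : Γ(Curv2.normalization X, ν ⁻¹ᵁ U) →ₐ[Γ(X, U)] X.functionField := { θ with commutes' := hcomp }
  obtain ⟨j, hjinj, hjcomp, hjsurj⟩ := exists_toNormRed (L := L) p θ' hθ hrange
  have hV : IsAffineOpen (ν ⁻¹ᵁ U) := hU.preimage ν
  let T := CAlg2.normRed L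
  have hint := toNormRed_isIntegral L
  have hcomapL : (IsLocalRing.maximalIdeal L).comap (algebraMap Γ(X, U) L) = p :=
    IsLocalization.AtPrime.comap_maximalIdeal L p
  have hmax : ∀ m : MaximalSpectrum T, m.asIdeal.comap (toNormRed L) = IsLocalRing.maximalIdeal L := fun m => by
    have := m.isMaximal
    letI := (toNormRed L).toAlgebra
    haveI : Algebra.IsIntegral L T := ⟨hint⟩
    exact IsLocalRing.eq_maximalIdeal (Ideal.isMaximal_comap_of_isIntegral_of_isMaximal (R := L) m.asIdeal)
  have hunit : ∀ s, s ∉ p → IsUnit (toNormRed L (algebraMap Γ(X, U) L s)) := fun s hs =>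
    (IsLocalization.map_units L (⟨s, hs⟩ : p.primeCompl)).map (toNormRed L)
  -- `T` is a localization of `B`
  let M : Submonoid Γ(Curv2.normalization X, ν ⁻¹ᵁ U) :=
    Algebra.algebraMapSubmonoid Γ(Curv2.normalization X, ν ⁻¹ᵁ U) p.primeCompl
  letI : Algebra Γ(Curv2.normalization X, ν ⁻¹ᵁ U) T := j.toAlgebra
  haveI hT : IsLocalization M T := by
    refine (isLocalization_iff M T).2 ⟨?_, fun z => ?_, fun {a b} h => ⟨1, by rw [hjinj h]⟩⟩
    · rintro ⟨_, s, hs, rfl⟩
      show IsUnit (j (algebraMap Γ(X, U) Γ(Curv2.normalization X, ν ⁻¹ᵁ U) s))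
      rw [hjcomp]
      exact hunit s hs
    · obtain ⟨s, b, hs, hsb⟩ := hjsurj z
      refine ⟨⟨b, ⟨_, s, hs, rfl⟩⟩, ?_⟩
      show z * j (algebraMap Γ(X, U) Γ(Curv2.normalization X, ν ⁻¹ᵁ U) s) = j b
      rw [hjcomp, mul_comm, hsb]
  -- primes over `p`
  let P : {P : Ideal Γ(Curv2.normalization X, ν ⁻¹ᵁ U) //
      P.IsPrime ∧ P.comap (ν.app U).hom = p} → Ideal T := fun P => P.1.map j
  have hdisj : ∀ P : {P : Ideal Γ(Curv2.normalization X, ν ⁻¹ᵁ U) //
      P.IsPrime ∧ P.comap (ν.app U).hom = p}, Disjoint (M : Set Γ(Curv2.normalization X, ν ⁻¹ᵁ U)) P.1 := by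
    intro P
    rw [Set.disjoint_left]
    rintro _ ⟨s, hs, rfl⟩ hsP
    exact hs (P.2.2.le (show s ∈ P.1.comap (ν.app U).hom from hsP))
  have hPmax : ∀ P, (P.1.map j).IsMaximal ∧ (P.1.map j).comap j = (P : {P : Ideal Γ(Curv2.normalization X, ν ⁻¹ᵁ U) //
      P.IsPrime ∧ P.comap (ν.app U).hom = p}).1 := by
    intro P
    have hP := P.2.1
    have hprime : (P.1.map j).IsPrime := IsLocalization.isPrime_of_isPrime_disjoint M T P.1 hP (hdisj P)
    have hcm : (P.1.map j).comap j = P.1 := IsLocalization.comap_map_of_isPrime_disjoint M T hP (hdisj P)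
    refine ⟨?_, hcm⟩
    have hq : (P.1.map j).comap (toNormRed L) = IsLocalRing.maximalIdeal L := by
      refine le_antisymm (IsLocalRing.le_maximalIdeal (Ideal.IsPrime.ne_top')) ?_
      rw [← IsLocalization.map_comap p.primeCompl L (IsLocalRing.maximalIdeal L), Ideal.under_def, hcomapL,
        Ideal.map_le_iff_le_comap]
      intro a ha
      show toNormRed L (algebraMap Γ(X, U) L a) ∈ P.1.map j
      rw [← hjcomp]
      exact Ideal.mem_map_of_mem j (show a ∈ P.1.comap (ν.app U).hom from P.2.2.ge ha)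
    letI := (toNormRed L).toAlgebra
    haveI : Algebra.IsIntegral L T := ⟨hint⟩
    haveI : ((P.1.map j).comap (algebraMap L T)).IsMaximal := by
      show ((P.1.map j).comap (toNormRed L)).IsMaximal
      rw [hq]; infer_instance
    exact Ideal.isMaximal_of_isIntegral_of_isMaximal_comap (R := L) _ this
  have hmP : ∀ m : MaximalSpectrum T, (m.asIdeal.comap j).comap (ν.app U).hom = p := fun m => by
    rw [← hcomapL, ← hmax m]
    ext a
    simp only [Ideal.mem_comap]
    rw [← hjcomp]
    rfl
  -- points over `x`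
  have hmem : ∀ x' : {x' : ↥(Curv2.normalization X) // ν.base x' = x}, x'.1 ∈ ν ⁻¹ᵁ U := fun x' =>
    show ν.base x'.1 ∈ U by rw [x'.2]; exact hxU
  have hover : ∀ x' : {x' : ↥(Curv2.normalization X) // ν.base x' = x},
      (hV.primeIdealOf ⟨x'.1, hmem x'⟩).asIdeal.comap (ν.app U).hom = p := fun x' => by
    have h := IsAffineOpen.comap_primeIdealOf_appLE (f := ν) U hU (ν ⁻¹ᵁ U) hV le_rfl (hmem x')
    rw [← Scheme.Hom.app_eq_appLE] at h
    exact (congrArg PrimeSpectrum.asIdeal h).trans
      (congrArg (fun z : U => (hU.primeIdealOf z).asIdeal) (Subtype.ext x'.2))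
  let F₀ : {x' : ↥(Curv2.normalization X) // ν.base x' = x} → MaximalSpectrum T := fun x' =>
    ⟨((hV.primeIdealOf ⟨x'.1, hmem x'⟩).asIdeal).map j,
      (hPmax ⟨_, inferInstance, hover x'⟩).1⟩
  have hF : ∀ x', (F₀ x').asIdeal.comap j = (hV.primeIdealOf ⟨x'.1, hmem x'⟩).asIdeal := fun x' =>
    (hPmax ⟨_, inferInstance, hover x'⟩).2
  have hF₀ : Function.Bijective F₀ := by
    refine ⟨fun a b h => ?_, fun m => ?_⟩
    · have h1 := congrArg hV.fromSpec.base (PrimeSpectrum.ext (x := hV.primeIdealOf ⟨a.1, hmem a⟩)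
        (y := hV.primeIdealOf ⟨b.1, hmem b⟩) (by rw [← hF, ← hF, h]))
      rw [hV.fromSpec_primeIdealOf, hV.fromSpec_primeIdealOf] at h1
      exact Subtype.ext h1
    · have := m.isMaximal
      let q : PrimeSpectrum Γ(Curv2.normalization X, ν ⁻¹ᵁ U) := ⟨m.asIdeal.comap j, inferInstance⟩
      have hqU : hV.fromSpec q ∈ ν ⁻¹ᵁ U := by
        have : hV.fromSpec q ∈ Set.range hV.fromSpec := ⟨_, rfl⟩
        rwa [hV.range_fromSpec] at this
      have hq : hV.primeIdealOf ⟨hV.fromSpec q, hqU⟩ = q :=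
        hV.fromSpec.isOpenEmbedding.injective (hV.fromSpec_primeIdealOf ⟨_, hqU⟩)
      have hx : ν.base (hV.fromSpec q) = x := by
        have h := IsAffineOpen.comap_primeIdealOf_appLE (f := ν) U hU (ν ⁻¹ᵁ U) hV le_rfl hqU
        rw [← Scheme.Hom.app_eq_appLE, hq] at h
        have h2 : hU.primeIdealOf ⟨ν (hV.fromSpec q), hqU⟩ = hU.primeIdealOf ⟨x, hxU⟩ :=
          h.symm.trans (PrimeSpectrum.ext (hmP m))
        have h3 := congrArg hU.fromSpec.base h2
        rwa [hU.fromSpec_primeIdealOf, hU.fromSpec_primeIdealOf] at h3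
      refine ⟨⟨_, hx⟩, MaximalSpectrum.ext ?_⟩
      show ((hV.primeIdealOf ⟨hV.fromSpec q, hqU⟩).asIdeal).map j = m.asIdeal
      rw [hq]
      exact IsLocalization.map_comap M T m.asIdeal
  refine ⟨Equiv.ofBijective F₀ hF₀, fun x' => ?_⟩
  -- residue fields
  show ENat.card (Brnch.Emb L (F₀ x')) = _
  clear_value F₀
  revert x'
  rintro ⟨y, rfl⟩
  generalize hm : F₀ ⟨y, rfl⟩ = m
  have hmy : m.asIdeal.comap j = (hV.primeIdealOf ⟨y, hmem ⟨y, rfl⟩⟩).asIdeal := hm ▸ hF ⟨y, rfl⟩
  have := m.isMaximal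
  letI := Ideal.Quotient.field m.asIdeal
  let e := evalAt (ν ⁻¹ᵁ U) y (hmem ⟨y, rfl⟩)
  let πm : Γ(Curv2.normalization X, ν ⁻¹ᵁ U) →+* T ⧸ m.asIdeal := (Ideal.Quotient.mk m.asIdeal).comp j
  have hke : RingHom.ker e = RingHom.ker πm := by
    rw [ker_evalAt hV, ← hmy]
    ext b
    simp [πm, RingHom.mem_ker, Ideal.Quotient.eq_zero_iff_mem]
  obtain ⟨ψ, hψ⟩ := exists_fieldEquiv e πm hke (fun z => exists_eq_div hV y (hmem ⟨y, rfl⟩) z) (fun z => by
    obtain ⟨w, rfl⟩ := Ideal.Quotient.mk_surjective z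
    obtain ⟨s, b, hs, hsb⟩ := hjsurj w
    refine ⟨b, (ν.app U).hom s, ?_⟩
    show Ideal.Quotient.mk m.asIdeal w =
      Ideal.Quotient.mk m.asIdeal (j b) / Ideal.Quotient.mk m.asIdeal (j (algebraMap Γ(X, U) _ s))
    rw [hjcomp, ← hsb, map_mul, mul_div_cancel_left₀]
    exact ((hunit s hs).map (Ideal.Quotient.mk m.asIdeal)).ne_zero)
  have hψL : ∀ l : L, ψ ((ν.residueFieldMap y).hom ((X.residue (ν.base y)).hom l)) = Brnch.toResidue L m l := by
    intro l
    refine RingHom.congr_fun (IsLocalization.ringHom_ext p.primeCompl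
      (j := ((ψ : (Curv2.normalization X).residueField y →+* T ⧸ m.asIdeal).comp
        ((ν.residueFieldMap y).hom.comp (X.residue (ν.base y)).hom))) (k := Brnch.toResidue L m)
      (RingHom.ext fun a => ?_)) l
    show ψ ((ν.residueFieldMap y).hom (evalAt U (ν.base y) hxU a)) = _
    rw [residueFieldMap_evalAt ν y hxU a, hψ]
    show Ideal.Quotient.mk m.asIdeal (j ((ν.app U).hom a)) = _
    rw [show j ((ν.app U).hom a) = _ from hjcomp a]
    rfl
  letI := (ν.residueFieldMap y).hom.toAlgebra
  haveI : Algebra.IsAlgebraic (X.residueField (ν.base y)) ((Curv2.normalization X).residueField y) := by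
    refine ⟨fun z => ?_⟩
    obtain ⟨a, b, rfl⟩ := exists_eq_div hV y (hmem ⟨y, rfl⟩) z
    have hi : ∀ c, _root_.IsIntegral (X.residueField (ν.base y)) (e c) := fun c => by
      obtain ⟨q, hq, hq0⟩ := ν.isIntegral_app U hU c
      refine ⟨q.map (evalAt U (ν.base y) hxU), hq.map _, ?_⟩
      rw [Polynomial.eval₂_map, show (algebraMap (X.residueField (ν.base y))
        ((Curv2.normalization X).residueField y)).comp (evalAt U (ν.base y) hxU) = e.comp (ν.app U).hom from
          RingHom.ext fun a => residueFieldMap_evalAt ν y hxU a, ← Polynomial.hom_eval₂, hq0, map_zero]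
    rw [div_eq_mul_inv]
    exact ((hi a).mul (hi b).inv).isAlgebraic
  letI : Algebra (X.residueField (ν.base y)) (AlgebraicClosure (IsLocalRing.ResidueField L)) :=
    (@algebraMap (IsLocalRing.ResidueField L) (AlgebraicClosure (IsLocalRing.ResidueField L)) _ _
      (AlgebraicClosure.instAlgebra (IsLocalRing.ResidueField L))).toAlgebra
  refine ENat.card_congr (Equiv.trans ?_
    (Field.embEquivOfIsAlgClosed (X.residueField (ν.base y)) ((Curv2.normalization X).residueField y)
      (AlgebraicClosure (IsLocalRing.ResidueField L))).symm)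
  exact
    { toFun := fun σ =>
        { toRingHom := σ.1.comp (ψ : (Curv2.normalization X).residueField y →+* T ⧸ m.asIdeal)
          commutes' := fun c => by
            obtain ⟨l, rfl⟩ := IsLocalRing.residue_surjective c
            show σ.1 (ψ ((ν.residueFieldMap y).hom ((X.residue (ν.base y)).hom l))) = _
            rw [hψL]
            exact RingHom.congr_fun σ.2 l }
      invFun := fun g => ⟨g.toRingHom.comp (ψ.symm : T ⧸ m.asIdeal →+* (Curv2.normalization X).residueField y),
        RingHom.ext fun l => by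
          show g (ψ.symm (Brnch.toResidue L m l)) = _
          rw [← hψL, RingEquiv.symm_apply_apply]
          exact g.commutes _⟩
      left_inv := fun σ => Subtype.ext (RingHom.ext fun z => congrArg σ.1 (ψ.apply_symm_apply z))
      right_inv := fun g => AlgHom.ext fun z => congrArg g (ψ.symm_apply_apply z) }

end Groth.Agent.NormDim1
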