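import Groth.Agent.NormDim1.Finite
import Groth.Agent.FlatOver.Basic
import Groth.Agent.QCohBase.CohProps
import Groth.Agent.QCohBase.Criteria
import Groth.Agent.QCohBase.Qcqs
import Groth.Agent.QCohAffine.Kernel
import Groth.Agent.Devissage.General
import Groth.Agent.AssPts.Structure
import Groth.Prelude.Def_ClSub2
import Mathlib

/-!
# The cokernel of `O_X → ν_* O` and the δ-invariant
-/

set_option autoImplicit false
set_option linter.style.haveILetI false

universe u

open CategoryTheory CategoryTheory.Limits AlgebraicGeometry Opposite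

namespace Groth.Agent.NormDim1

section Algebra

variable {A : Type u} [CommRing A] [IsDomain A] (p : Ideal A) [p.IsPrime]
  {L : Type u} [CommRing L] [Algebra A L] [IsLocalization.AtPrime L p]
  {B : Type u} [CommRing B] [Algebra A B]
  {K : Type u} [Field K] [Algebra A K] [Algebra L K] [IsScalarTower A L K] [IsFractionRing L K]

/-- Localizing the cokernel of `A → integral closure` gives the cokernel of `L → integral closure`. -/
theorem exists_isLocalizedModule (j : B →ₐ[A] K) (hj : Function.Injective j)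
    (hrange : ∀ z : K, z ∈ j.range ↔ _root_.IsIntegral A z) :
    ∃ Λ : (B ⧸ LinearMap.range (Algebra.linearMap A B)) →ₗ[A]
        ((integralClosure L K) ⧸ LinearMap.range (Algebra.linearMap L (integralClosure L K))),
      IsLocalizedModule p.primeCompl Λ := by
  let IC := integralClosure L K
  let R := LinearMap.range (Algebra.linearMap L IC)
  let j' : B →ₗ[A] IC :=
    { toFun := fun b => ⟨j b, ((hrange (j b)).1 ⟨b, rfl⟩).tower_top⟩
      map_add' := fun a b => Subtype.ext (map_add j a b)
      map_smul' := fun a b => Subtype.ext (map_smul j a b) }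
  let Λ₀ : B →ₗ[A] IC ⧸ R := (R.mkQ.restrictScalars A) ∘ₗ j'
  have hker : LinearMap.range (Algebra.linearMap A B) ≤ LinearMap.ker Λ₀ := by
    rintro _ ⟨a, rfl⟩
    refine (Submodule.Quotient.mk_eq_zero R).2 ⟨algebraMap A L a, Subtype.ext ?_⟩
    show algebraMap L K (algebraMap A L a) = j (algebraMap A B a)
    rw [j.commutes, ← IsScalarTower.algebraMap_apply]
  refine ⟨Submodule.liftQ _ Λ₀ hker, ?_, fun z => ?_, fun {x y} hxy => ?_⟩
  · intro s
    rw [Module.End.isUnit_iff]
    obtain ⟨v, hv⟩ := IsLocalization.map_units L (M := p.primeCompl) s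
    have hsm : ∀ z : IC ⧸ R, (s : A) • z = (v : L) • z := fun z => by
      rw [hv, algebraMap_smul]
    refine ⟨fun a b h => ?_, fun b => ⟨((v⁻¹ : Lˣ) : L) • b, ?_⟩⟩
    · have h' : (v : L) • a = (v : L) • b := (hsm a).symm.trans (h.trans (hsm b))
      simpa [smul_smul] using congrArg (fun z => ((v⁻¹ : Lˣ) : L) • z) h'
    · show (s : A) • (((v⁻¹ : Lˣ) : L) • b) = b
      rw [hsm, smul_smul, Units.mul_inv, one_smul]
  · obtain ⟨w, rfl⟩ := Submodule.Quotient.mk_surjective R z
    obtain ⟨⟨s, hs⟩, hsw⟩ :=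
      (w.2 : _root_.IsIntegral L (w : K)).exists_multiple_integral_of_isLocalization p.primeCompl
    obtain ⟨b, hb⟩ := (hrange _).2 hsw
    refine ⟨⟨Submodule.Quotient.mk b, ⟨s, hs⟩⟩, ?_⟩
    exact (Submodule.Quotient.mk_smul R s w).symm.trans (congrArg R.mkQ (Subtype.ext hb.symm))
  · obtain ⟨x, rfl⟩ := Submodule.Quotient.mk_surjective _ x
    obtain ⟨y, rfl⟩ := Submodule.Quotient.mk_surjective _ y
    obtain ⟨l, hl⟩ := (Submodule.Quotient.eq R).1 (hxy : R.mkQ (j' x) = R.mkQ (j' y))
    obtain ⟨a, s, rfl⟩ := IsLocalization.exists_mk'_eq p.primeCompl l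
    refine ⟨s, ?_⟩
    show (s : A) • (Submodule.Quotient.mk x : B ⧸ LinearMap.range (Algebra.linearMap A B)) =
      (s : A) • Submodule.Quotient.mk y
    rw [← Submodule.Quotient.mk_smul, ← Submodule.Quotient.mk_smul, Submodule.Quotient.eq, ← smul_sub]
    refine ⟨a, hj ?_⟩
    show j (algebraMap A B a) = j ((s : A) • (x - y))
    rw [j.commutes, map_smul, map_sub]
    have hl' : algebraMap L K (IsLocalization.mk' L a s) = j x - j y := congrArg Subtype.val hl
    rw [← hl', Algebra.smul_def, IsScalarTower.algebraMap_apply A L K (s : A), ← map_mul,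
      IsLocalization.mk'_spec', ← IsScalarTower.algebraMap_apply]

end Algebra

variable {X : Scheme.{u}} [IsIntegral X]
  [QuasiCompact (X.fromSpecStalk (genericPoint X))] [QuasiSeparated (X.fromSpecStalk (genericPoint X))]

theorem mono_unitToPush : Mono (ClSub.unitToPush (Curv2.normalizationι X)) :=
  Devissage.mono_of_app_injective _ fun U a b h => app_injective U h

theorem length_stalk_cokernel (x : X) :
    Module.length (X.presheaf.stalk x)
      ((cokernel (ClSub.unitToPush (Curv2.normalizationι X))).presheaf.stalk x) =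
      Curv2.deltaInv (X.presheaf.stalk x) := by
  classical
  obtain ⟨_, ⟨U, hU, rfl⟩, hxU, -⟩ := X.isBasis_affineOpens.exists_subset_of_mem_open
    (Set.mem_univ x) isOpen_univ
  have hη : genericPoint X ∈ U := mem_of_nonempty ⟨x, hxU⟩
  have : Nonempty U := ⟨⟨_, hη⟩⟩
  let ν := Curv2.normalizationι X
  let φ := ClSub.unitToPush ν
  haveI := mono_unitToPush (X := X)
  let C := cokernel φ
  have hN : ((Scheme.Modules.pushforward ν).obj
      (Coh.structureModule (Curv2.normalization X))).IsQuasicoherent :=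
    haveI := AssPts.isQuasicoherent_structureModule (Curv2.normalization X)
    QCohBase.isQuasicoherent_pushforward _ ν
  haveI hC : C.IsQuasicoherent := QCohBase.isQuasicoherent_cokernel φ
    (AssPts.isQuasicoherent_structureModule X) hN
  -- the rings
  let p := (hU.primeIdealOf ⟨x, hxU⟩).asIdeal
  letI algAL : Algebra Γ(X, U) (X.presheaf.stalk x) := (X.presheaf.germ U x hxU).hom.toAlgebra
  haveI : IsLocalization.AtPrime (X.presheaf.stalk x) p := hU.isLocalization_stalk ⟨x, hxU⟩
  letI : Algebra Γ(X, U) X.functionField := (X.presheaf.germ U _ hη).hom.toAlgebra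
  haveI : IsFractionRing Γ(X, U) X.functionField := functionField_isFractionRing_of_isAffineOpen X U hU
  let K' := FractionRing (X.presheaf.stalk x)
  haveI : FaithfulSMul Γ(X, U) K' := (faithfulSMul_iff_algebraMap_injective _ _).2 (by
    rw [IsScalarTower.algebraMap_eq Γ(X, U) (X.presheaf.stalk x) K', RingHom.coe_comp]
    exact (IsFractionRing.injective (X.presheaf.stalk x) K').comp
      (IsLocalization.injective (X.presheaf.stalk x) (Ideal.primeCompl_le_nonZeroDivisors p)))
  haveI : IsFractionRing Γ(X, U) K' := IsFractionRing.of_field _ _ fun z => by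
    obtain ⟨l₁, l₂, -, rfl⟩ := IsFractionRing.div_surjective (X.presheaf.stalk x) z
    obtain ⟨⟨a₁, s₁⟩, h₁⟩ := IsLocalization.surj p.primeCompl l₁
    obtain ⟨⟨a₂, s₂⟩, h₂⟩ := IsLocalization.surj p.primeCompl l₂
    refine ⟨a₁ * s₂, s₁ * a₂, ?_⟩
    have hs : ∀ s : p.primeCompl, algebraMap Γ(X, U) K' (s : Γ(X, U)) ≠ 0 := fun s h0 => by
      refine s.2 (?_ : (s : Γ(X, U)) ∈ p)
      rw [(FaithfulSMul.algebraMap_injective Γ(X, U) K') (h0.trans (map_zero _).symm)]
      exact p.zero_mem
    have e₁ := congrArg (algebraMap (X.presheaf.stalk x) K') h₁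
    have e₂ := congrArg (algebraMap (X.presheaf.stalk x) K') h₂
    simp only [map_mul, ← IsScalarTower.algebraMap_apply] at e₁ e₂
    rw [map_mul, map_mul, ← e₁, ← e₂]

    rw [mul_assoc (algebraMap (X.presheaf.stalk x) K' l₁), mul_left_comm (algebraMap Γ(X, U) K' (s₁ : Γ(X, U))),
      mul_div_mul_right _ _ (mul_ne_zero (hs s₁) (hs s₂))]
  let e : X.functionField ≃ₐ[Γ(X, U)] K' := IsLocalization.algEquiv (nonZeroDivisors Γ(X, U)) _ _
  letI : Algebra Γ(X, U) Γ(Curv2.normalization X, ν ⁻¹ᵁ U) := (ν.app U).hom.toAlgebra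
  obtain ⟨θ, hθ, hcomp, hrange⟩ := exists_chart hU hη
  let θ' : Γ(Curv2.normalization X, ν ⁻¹ᵁ U) →ₐ[Γ(X, U)] X.functionField := { θ with commutes' := hcomp }
  obtain ⟨Λ, hΛ⟩ := exists_isLocalizedModule (B := Γ(Curv2.normalization X, ν ⁻¹ᵁ U)) (L := X.presheaf.stalk x)
    p (e.toAlgHom.comp θ') (e.injective.comp hθ) (fun z => by
      constructor
      · rintro ⟨b, rfl⟩
        exact IsIntegral.map e.toAlgHom (show _root_.IsIntegral Γ(X, U) (θ b) from (hrange _).1 ⟨b, rfl⟩)
      · intro hz
        obtain ⟨b, hb⟩ := (hrange (e.symm z)).2 (hz.map e.symm.toAlgHom)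
        exact ⟨b, (congrArg e hb).trans (e.apply_symm_apply z)⟩)
  -- sections of the cokernel
  let π : Γ(Curv2.normalization X, ν ⁻¹ᵁ U) →ₗ[Γ(X, U)] Γ(C, U) :=
    { toFun := fun b => (cokernel.π φ).app U b
      map_add' := map_add _
      map_smul' := fun a b => Scheme.Modules.Hom.app_smul (cokernel.π φ) a b }
  have hπs : Function.Surjective π :=
    QCohBase.app_surjective_of_epi (cokernel.π φ) hN hC hU
  have hπk : LinearMap.ker π = LinearMap.range (Algebra.linearMap Γ(X, U) Γ(Curv2.normalization X, ν ⁻¹ᵁ U)) := by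
    ext b
    constructor
    · intro hb
      obtain ⟨y, hy⟩ := QCohAffine.exists_kernel_app_eq (cokernel.π φ) U b hb
      have : IsIso (kernel.lift (cokernel.π φ) φ (cokernel.condition φ)) :=
        isIso_of_mono_of_epi _
      refine ⟨(inv (kernel.lift (cokernel.π φ) φ (cokernel.condition φ))).app U y, ?_⟩
      refine Eq.trans ?_ hy
      have h1 := congrArg (fun ψ => Scheme.Modules.Hom.app ψ U y)
        (IsIso.inv_hom_id_assoc (kernel.lift (cokernel.π φ) φ (cokernel.condition φ)) (kernel.ι (cokernel.π φ)))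
      simp only [kernel.lift_ι, Devissage.comp_app_apply] at h1
      exact h1
    · rintro ⟨a, rfl⟩
      show (cokernel.π φ).app U (φ.app U a) = 0
      rw [← Devissage.comp_app_apply, cokernel.condition]
      rfl
  let εq : (Γ(Curv2.normalization X, ν ⁻¹ᵁ U) ⧸
      LinearMap.range (Algebra.linearMap Γ(X, U) Γ(Curv2.normalization X, ν ⁻¹ᵁ U))) ≃ₗ[Γ(X, U)] Γ(C, U) :=
    (Submodule.quotEquivOfEq _ _ hπk.symm).trans (π.quotKerEquivOfSurjective hπs)
  letI := FlatOver.germModule C x hxU
  haveI := FlatOver.isLocalizedModule_germₗ C hU x hxU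
  haveI : IsLocalizedModule p.primeCompl (Λ ∘ₗ εq.symm.toLinearMap) :=
    IsLocalizedModule.of_linearEquiv_right p.primeCompl Λ εq.symm
  let E := IsLocalizedModule.linearEquiv p.primeCompl (FlatOver.germₗ C x hxU) (Λ ∘ₗ εq.symm.toLinearMap)
  haveI : IsScalarTower Γ(X, U) (X.presheaf.stalk x) (C.presheaf.stalk x) :=
    .of_algebraMap_smul fun _ _ => rfl
  exact LinearEquiv.length_eq (E.extendScalarsOfIsLocalization p.primeCompl (X.presheaf.stalk x))

theorem subsingleton_stalk_cokernel [IsLocallyNoetherian X] (hdim : topologicalKrullDim X ≤ 1) (x : X)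
    (hx : ¬ IsClosed ({x} : Set X)) :
    Subsingleton ((cokernel (ClSub.unitToPush (Curv2.normalizationι X))).presheaf.stalk x) := by
  obtain ⟨y, hy, hyx⟩ : ∃ y, x ⤳ y ∧ y ≠ x := by
    by_contra hc
    push Not at hc
    exact hx (closure_subset_iff_isClosed.1 fun y hy => hc y (specializes_iff_mem_closure.2 hy))
  obtain ⟨_, ⟨V, hV, rfl⟩, hyV, -⟩ := X.isBasis_affineOpens.exists_subset_of_mem_open
    (Set.mem_univ y) isOpen_univ
  have hxV : x ∈ V := hy.mem_open V.2 hyV
  have : Nonempty V := ⟨⟨_, hxV⟩⟩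
  have := krullDimLE_one hV hdim
  let q := hV.primeIdealOf ⟨y, hyV⟩
  let p := hV.primeIdealOf ⟨x, hxV⟩
  have hp : p.asIdeal = ⊥ := by
    by_contra hp0
    have hmax : p.asIdeal.IsMaximal := by
      rcases Ring.krullDimLE_one_iff.1 ‹Ring.KrullDimLE 1 Γ(X, V)› _ p.2 with h | h
      · rw [IsDomain.minimalPrimes_eq_singleton_bot] at h
        exact absurd h hp0
      · exact h
    have hle : p.asIdeal ≤ q.asIdeal := (PrimeSpectrum.le_iff_specializes p q).2
      (hV.fromSpec.isOpenEmbedding.isInducing.specializes_iff.1 (by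
        rwa [hV.fromSpec_primeIdealOf, hV.fromSpec_primeIdealOf]))
    have h2 := congrArg hV.fromSpec.base (PrimeSpectrum.ext (x := p) (y := q) (hmax.eq_of_le q.2.ne_top hle))
    simp only [p, q, hV.fromSpec_primeIdealOf] at h2
    exact hyx h2.symm
  have hη : genericPoint X ∈ V := mem_of_nonempty ⟨x, hxV⟩
  letI : Algebra Γ(X, V) (X.presheaf.stalk x) := (X.presheaf.germ V x hxV).hom.toAlgebra
  haveI : IsLocalization.AtPrime (X.presheaf.stalk x) p.asIdeal := hV.isLocalization_stalk ⟨x, hxV⟩
  haveI : IsFractionRing Γ(X, V) (X.presheaf.stalk x) := by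
    have h : IsLocalization p.asIdeal.primeCompl (X.presheaf.stalk x) := inferInstance
    have : p.asIdeal.primeCompl = nonZeroDivisors Γ(X, V) := by
      ext a
      simp [hp, Ideal.primeCompl, mem_nonZeroDivisors_iff_ne_zero]
    rwa [this] at h
  have hfield : IsField (X.presheaf.stalk x) := (IsFractionRing.toField Γ(X, V) (K := X.presheaf.stalk x)).toIsField
  haveI : IsDomain (X.presheaf.stalk x) := hfield.isDomain
  letI := hfield.toField
  rw [← Module.length_eq_zero_iff (R := X.presheaf.stalk x), length_stalk_cokernel, Curv2.deltaInv,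
    Module.length_eq_zero_iff]
  refine Submodule.Quotient.subsingleton_iff.2 (eq_top_iff.2 fun z _ => ?_)
  obtain ⟨c, hc⟩ := IsFractionRing.surjective_iff_isField.2 hfield (z : FractionRing (X.presheaf.stalk x))
  exact ⟨c, Subtype.ext hc⟩

end Groth.Agent.NormDim1
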