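import Groth.Agent.NormDim1.Basic
import Groth.Agent.RedNorm.Basic
import Groth.Agent.EGA2Curve.Finite

/-!
# Finiteness and birationality of the normalization of an integral scheme
-/

set_option autoImplicit false
set_option linter.style.haveILetI false

universe u

open CategoryTheory AlgebraicGeometry Opposite

namespace Groth.Agent.NormDim1

variable {X : Scheme.{u}} [IsIntegral X]
  [QuasiCompact (X.fromSpecStalk (genericPoint X))] [QuasiSeparated (X.fromSpecStalk (genericPoint X))]

/-- the integral closure of every affine coordinate ring in the function field is finite -/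
def HasFiniteNormalization (X : Scheme.{u}) [IsIntegral X] : Prop :=
  ∀ (U : X.Opens) (_ : IsAffineOpen U) (hη : genericPoint X ∈ U),
    @Module.Finite Γ(X, U)
      (letI := (X.presheaf.germ U (genericPoint X) hη).hom.toAlgebra
       ↥(integralClosure Γ(X, U) X.functionField)) _ _
      (letI := (X.presheaf.germ U (genericPoint X) hη).hom.toAlgebra
       inferInstance)

theorem mem_of_nonempty {U : X.Opens} (h : (U : Set X).Nonempty) : genericPoint X ∈ U :=
  ((genericPoint_spec X).mem_open_set_iff U.isOpen).2 (by simpa using h)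

theorem app_injective (U : X.Opens) : Function.Injective ((Curv2.normalizationι X).app U).hom := by
  by_cases hU : (U : Set X).Nonempty
  · intro a b h
    obtain ⟨_, ⟨V, hV, rfl⟩, hηV, hVU⟩ := X.isBasis_affineOpens.exists_subset_of_mem_open
      (mem_of_nonempty hU) U.isOpen
    obtain ⟨θ, -, hcomp, -⟩ := exists_chart hV hηV
    have hnat : ∀ c, ((Curv2.normalizationι X).app V).hom ((X.presheaf.map (homOfLE hVU).op).hom c) =
        ((Curv2.normalization X).presheaf.map ((TopologicalSpace.Opens.map _).map (homOfLE hVU)).op).hom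
          (((Curv2.normalizationι X).app U).hom c) := fun c =>
      congr($((Curv2.normalizationι X).naturality (homOfLE hVU).op).hom c)
    have h1 : (X.presheaf.germ V _ hηV).hom ((X.presheaf.map (homOfLE hVU).op).hom a) =
        (X.presheaf.germ V _ hηV).hom ((X.presheaf.map (homOfLE hVU).op).hom b) := by
      rw [← hcomp, ← hcomp, hnat, hnat, h]
    refine AlgebraicGeometry.germ_injective_of_isIntegral X (genericPoint X) (mem_of_nonempty hU) ?_
    rwa [← X.presheaf.germ_res_apply (homOfLE hVU) (genericPoint X) hηV,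
      ← X.presheaf.germ_res_apply (homOfLE hVU) (genericPoint X) hηV]
  · intro a b _
    have : Subsingleton Γ(X, U) := by
      rw [show U = ⊥ from TopologicalSpace.Opens.ext (Set.not_nonempty_iff_eq_empty.1 hU)]
      infer_instance
    exact Subsingleton.elim a b

theorem finite_app (h : HasFiniteNormalization X) {U : X.Opens} (hU : IsAffineOpen U)
    (hη : genericPoint X ∈ U) : ((Curv2.normalizationι X).app U).hom.Finite := by
  obtain ⟨θ, hθ, hcomp, hrange⟩ := exists_chart hU hη
  letI : Algebra Γ(X, U) X.functionField := (X.presheaf.germ U _ hη).hom.toAlgebra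
  letI : Algebra Γ(X, U) Γ(Curv2.normalization X, Curv2.normalizationι X ⁻¹ᵁ U) :=
    ((Curv2.normalizationι X).app U).hom.toAlgebra
  haveI : Module.Finite Γ(X, U) (integralClosure Γ(X, U) X.functionField) := h U hU hη
  let g : Γ(Curv2.normalization X, Curv2.normalizationι X ⁻¹ᵁ U) →ₐ[Γ(X, U)] X.functionField :=
    { θ with commutes' := hcomp }
  let g' := g.codRestrict (integralClosure Γ(X, U) X.functionField) fun b => (hrange _).1 ⟨b, rfl⟩
  have hg' : Function.Bijective g' := ⟨fun a b h => hθ (congrArg Subtype.val h), fun z => by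
    obtain ⟨b, hb⟩ := (hrange _).2 z.2
    exact ⟨b, Subtype.ext hb⟩⟩
  exact Module.Finite.equiv (AlgEquiv.ofBijective g' hg').symm.toLinearEquiv

theorem isFinite (h : HasFiniteNormalization X) : IsFinite (Curv2.normalizationι X) := by
  rw [isFinite_iff]
  refine ⟨inferInstance, fun U hU => ?_⟩
  by_cases hne : (U : Set X).Nonempty
  · exact finite_app h hU (mem_of_nonempty hne)
  · have : Subsingleton Γ(Curv2.normalization X, Curv2.normalizationι X ⁻¹ᵁ U) := by
      rw [show U = ⊥ from TopologicalSpace.Opens.ext (Set.not_nonempty_iff_eq_empty.1 hne),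
        show Curv2.normalizationι X ⁻¹ᵁ ⊥ = ⊥ from rfl]
      infer_instance
    exact RingHom.Finite.of_surjective _ fun b => ⟨0, Subsingleton.elim _ _⟩

theorem exists_isIso_restrict (h : HasFiniteNormalization X) :
    ∃ V : X.Opens, (V : Set X).Nonempty ∧ IsIso (Curv2.normalizationι X ∣_ V) := by
  classical
  obtain ⟨_, ⟨U, hU, rfl⟩, hη, -⟩ := X.isBasis_affineOpens.exists_subset_of_mem_open
    (Set.mem_univ (genericPoint X)) isOpen_univ
  have : Nonempty U := ⟨⟨_, hη⟩⟩
  let ν := Curv2.normalizationι X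
  obtain ⟨θ, hθ, hcomp, -⟩ := exists_chart hU hη
  letI : Algebra Γ(X, U) X.functionField := (X.presheaf.germ U _ hη).hom.toAlgebra
  have : IsFractionRing Γ(X, U) X.functionField := functionField_isFractionRing_of_isAffineOpen X U hU
  letI : Algebra Γ(X, U) Γ(Curv2.normalization X, ν ⁻¹ᵁ U) := (ν.app U).hom.toAlgebra
  haveI : Module.Finite Γ(X, U) Γ(Curv2.normalization X, ν ⁻¹ᵁ U) := finite_app h hU hη
  obtain ⟨S, hS⟩ := (Module.Finite.fg_top : (⊤ : Submodule Γ(X, U) Γ(Curv2.normalization X, ν ⁻¹ᵁ U)).FG)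
  obtain ⟨⟨d, hd⟩, hd'⟩ := IsLocalization.exist_integer_multiples (nonZeroDivisors Γ(X, U)) S θ
  have hd0 : d ≠ 0 := nonZeroDivisors.ne_zero hd
  have hmul : ∀ b, ∃ a, (ν.app U).hom a = (ν.app U).hom d * b := by
    intro b
    have hb : b ∈ Submodule.span Γ(X, U) (S : Set Γ(Curv2.normalization X, ν ⁻¹ᵁ U)) := hS ▸ trivial
    induction hb using Submodule.span_induction with
    | mem x hx =>
      obtain ⟨a, ha⟩ := hd' x hx
      refine ⟨a, hθ ?_⟩
      rw [hcomp, map_mul, hcomp]
      exact ha
    | zero => exact ⟨0, by rw [map_zero, mul_zero]⟩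
    | add x y _ _ hx hy =>
      obtain ⟨a, ha⟩ := hx; obtain ⟨c, hc⟩ := hy
      exact ⟨a + c, by rw [map_add, ha, hc, mul_add]⟩
    | smul r x _ hx =>
      obtain ⟨a, ha⟩ := hx
      refine ⟨r * a, ?_⟩
      rw [map_mul, ha]
      show _ = _ * ((ν.app U).hom r * x)
      ring
  refine ⟨X.basicOpen d, ?_, ?_⟩
  · by_contra hne
    refine hd0 (basicOpen_eq_bot_iff d |>.1 (TopologicalSpace.Opens.ext ?_))
    exact Set.not_nonempty_iff_eq_empty.1 hne
  · have hV : IsAffineOpen (ν ⁻¹ᵁ U) := hU.preimage ν
    have hpre : ν ⁻¹ᵁ X.basicOpen d = (Curv2.normalization X).basicOpen ((ν.app U).hom d) :=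
      Scheme.preimage_basicOpen ν d
    have haff : IsAffineOpen (X.basicOpen d) := hU.basicOpen d
    have : IsAffine (X.basicOpen d : Scheme.{u}) := haff
    have : IsAffine (ν ⁻¹ᵁ X.basicOpen d : Scheme.{u}) := haff.preimage ν
    suffices IsIso (ν ∣_ X.basicOpen d).appTop by
      refine ((MorphismProperty.isomorphisms _).arrow_mk_iso_iff
        (arrowIsoSpecΓOfIsAffine (ν ∣_ X.basicOpen d))).2 ?_
      exact (inferInstanceAs (IsIso (Spec.map (ν ∣_ X.basicOpen d).appTop)))
    have hbij : Function.Bijective (ν.app (X.basicOpen d)).hom := by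
      refine ⟨app_injective _, fun z => ?_⟩
      let ρ : Γ(X, U) →+* Γ(X, X.basicOpen d) := (X.presheaf.map (homOfLE (X.basicOpen_le d)).op).hom
      let ρ' : Γ(Curv2.normalization X, ν ⁻¹ᵁ U) →+* Γ(Curv2.normalization X, ν ⁻¹ᵁ X.basicOpen d) :=
        ((Curv2.normalization X).presheaf.map
          ((TopologicalSpace.Opens.map _).map (homOfLE (X.basicOpen_le d))).op).hom
      have hnat : ∀ c, (ν.app (X.basicOpen d)).hom (ρ c) = ρ' ((ν.app U).hom c) := fun c =>
        congr($(ν.naturality (homOfLE (X.basicOpen_le d)).op).hom c)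
      letI : Algebra Γ(X, U) Γ(X, X.basicOpen d) := ρ.toAlgebra
      have hA : IsLocalization.Away d Γ(X, X.basicOpen d) := hU.isLocalization_basicOpen d
      letI : Algebra Γ(Curv2.normalization X, ν ⁻¹ᵁ U)
          Γ(Curv2.normalization X, ν ⁻¹ᵁ X.basicOpen d) := ρ'.toAlgebra
      have hB : IsLocalization.Away ((ν.app U).hom d) Γ(Curv2.normalization X, ν ⁻¹ᵁ X.basicOpen d) :=
        hV.isLocalization_of_eq_basicOpen ((ν.app U).hom d)
          ((TopologicalSpace.Opens.map _).map (homOfLE (X.basicOpen_le d))) hpre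
      obtain ⟨n, b, hb⟩ := IsLocalization.Away.surj ((ν.app U).hom d) z
      obtain ⟨a, ha⟩ := hmul b
      obtain ⟨e, he⟩ := IsLocalization.Away.algebraMap_isUnit (S := Γ(X, X.basicOpen d)) d
      refine ⟨ρ a * ↑(e⁻¹ ^ (n + 1)), ?_⟩
      have hu : IsUnit (ρ' ((ν.app U).hom d) ^ (n + 1)) :=
        (IsLocalization.Away.algebraMap_isUnit (S := Γ(Curv2.normalization X, ν ⁻¹ᵁ X.basicOpen d))
          ((ν.app U).hom d)).pow _
      refine hu.mul_right_cancel ?_
      rw [← hnat d, ← map_pow, ← map_mul, mul_assoc, Units.val_pow_eq_pow_val,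
        show ρ d = (e : Γ(X, X.basicOpen d)) from he.symm, ← mul_pow, Units.inv_mul, one_pow, mul_one,
        map_pow, he]
      rw [show algebraMap Γ(X, U) Γ(X, X.basicOpen d) d = ρ d from rfl, hnat, hnat, ha, map_mul,
        show ρ' b = algebraMap _ _ b from rfl, ← hb,
        show algebraMap _ _ ((ν.app U).hom d) = ρ' ((ν.app U).hom d) from rfl]
      ring
    have hiso : IsIso (ν.app (X.basicOpen d)) := (ConcreteCategory.isIso_iff_bijective _).2 hbij
    rw [morphismRestrict_appTop]
    have : IsIso (ν.app ((X.basicOpen d).ι ''ᵁ ⊤)) := by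
      rw [Scheme.Opens.ι_image_top]; exact hiso
    exact IsIso.comp_isIso' this (Functor.map_isIso _ _)

theorem hasFiniteNormalization_of_isNagata (hN : ∀ U : X.affineOpens, CAlg.IsNagata Γ(X, (U : X.Opens))) :
    HasFiniteNormalization X := by
  intro U hU hη
  have : Nonempty U := ⟨⟨_, hη⟩⟩
  letI : Algebra Γ(X, U) X.functionField := (X.presheaf.germ U _ hη).hom.toAlgebra
  have : IsFractionRing Γ(X, U) X.functionField := functionField_isFractionRing_of_isAffineOpen X U hU
  have hA : IsNoetherianRing Γ(X, U) := (hN ⟨U, hU⟩).1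
  have := RedNorm.finite_integralClosure (A := Γ(X, U)) (hN ⟨U, hU⟩)
  let e : X.functionField ≃ₐ[Γ(X, U)] FractionRing Γ(X, U) := (FractionRing.algEquiv Γ(X, U) X.functionField).symm
  let g : integralClosure Γ(X, U) X.functionField →ₗ[Γ(X, U)]
      integralClosure Γ(X, U) (FractionRing Γ(X, U)) :=
    { toFun := fun z => ⟨e z.1, (z.2 : _root_.IsIntegral Γ(X, U) z.1).map e.toAlgHom⟩
      map_add' := fun a b => Subtype.ext (map_add e _ _)
      map_smul' := fun r a => Subtype.ext (map_smul e r a.1) }
  exact Module.Finite.of_injective g fun a b h => Subtype.ext (e.injective (congrArg Subtype.val h))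

theorem hasFiniteNormalization_of_field (k : Type u) [Field k] (f : X ⟶ Spec (CommRingCat.of k))
    [LocallyOfFiniteType f] : HasFiniteNormalization X := by
  intro U hU hη
  have : Nonempty U := ⟨⟨_, hη⟩⟩
  letI : Algebra Γ(X, U) X.functionField := (X.presheaf.germ U _ hη).hom.toAlgebra
  have : IsFractionRing Γ(X, U) X.functionField := functionField_isFractionRing_of_isAffineOpen X U hU
  letI : Algebra k Γ(X, U) := (((Scheme.ΓSpecIso (CommRingCat.of k)).inv ≫ f.appLE ⊤ U le_top).hom).toAlgebra
  haveI : Algebra.FiniteType k Γ(X, U) := by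
    show (((Scheme.ΓSpecIso (CommRingCat.of k)).inv ≫ f.appLE ⊤ U le_top).hom).FiniteType
    rw [CommRingCat.hom_comp]
    exact (f.finiteType_appLE (isAffineOpen_top _) hU le_top).comp (RingHom.FiniteType.of_surjective _
      (Scheme.ΓSpecIso (CommRingCat.of k)).symm.commRingCatIsoToRingEquiv.surjective)
  exact EGA2Curve.finite_integralClosure k Γ(X, U) X.functionField X.functionField

end Groth.Agent.NormDim1
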